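import Mathlib

/-! Kähler differentials and separating transcendence bases. -/

set_option autoImplicit false

universe u v w

namespace Groth.Agent.CAlgSep

variable {k : Type u} {F : Type v} [Field k] [Field F] [Algebra k F]

open scoped TensorProduct

/-- If `x` is a separating transcendence basis then the `d xᵢ` form a basis of `Ω[F⁄k]`. -/
theorem exists_basis_of_separable {ι : Type w} {x : ι → F} (hx : IsTranscendenceBasis k x)
    (hsep : Algebra.IsSeparable ↥(IntermediateField.adjoin k (Set.range x)) F) :
    ∃ b : Module.Basis ι F (Ω[F⁄k]), ∀ i, b i = KaehlerDifferential.D k F (x i) := by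
  classical
  let P := MvPolynomial ι k
  let E := IntermediateField.adjoin k (Set.range x)
  let e : FractionRing P ≃ₐ[k] E := hx.1.aevalEquivField
  letI : Algebra P E := ((e.toAlgHom.toRingHom).comp (algebraMap P (FractionRing P))).toAlgebra
  haveI : IsScalarTower k P E := IsScalarTower.of_algebraMap_eq fun r => by
    rw [RingHom.algebraMap_toAlgebra, RingHom.comp_apply, ← IsScalarTower.algebraMap_apply]
    exact (e.commutes r).symm
  let e' : FractionRing P ≃ₐ[P] E := AlgEquiv.ofRingEquiv (f := e.toRingEquiv) fun r => rfl
  haveI : IsFractionRing P E := IsLocalization.isLocalization_of_algEquiv _ e'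
  letI : Algebra P F := ((algebraMap E F).comp (algebraMap P E)).toAlgebra
  haveI : IsScalarTower P E F := IsScalarTower.of_algebraMap_eq fun r => rfl
  haveI : IsScalarTower k P F := IsScalarTower.of_algebraMap_eq fun r => by
    rw [RingHom.algebraMap_toAlgebra, RingHom.comp_apply, ← IsScalarTower.algebraMap_apply k P E,
      ← IsScalarTower.algebraMap_apply]
  haveI : Algebra.FormallyEtale P E := Algebra.FormallyEtale.of_isLocalization (nonZeroDivisors P)
  haveI : Algebra.FormallyEtale E F := Algebra.FormallyEtale.of_isSeparable E F
  haveI : Algebra.FormallyEtale P F := Algebra.FormallyEtale.comp P E F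
  refine ⟨((KaehlerDifferential.mvPolynomialBasis k ι).baseChange F).map
    (KaehlerDifferential.tensorKaehlerEquivOfFormallyEtale k P F), fun i => ?_⟩
  have hX : algebraMap P F (MvPolynomial.X i) = x i := by
    change ((e (algebraMap P (FractionRing P) (MvPolynomial.X i)) : E) : F) = x i
    rw [show ((e (algebraMap P (FractionRing P) (MvPolynomial.X i)) : E) : F) = _ from
      hx.1.aevalEquivField_algebraMap_apply_coe (MvPolynomial.X i), MvPolynomial.aeval_X]
  rw [Module.Basis.map_apply, Module.Basis.baseChange_apply,
    KaehlerDifferential.tensorKaehlerEquivOfFormallyEtale_apply, KaehlerDifferential.mapBaseChange_tmul,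
    KaehlerDifferential.mvPolynomialBasis_apply, KaehlerDifferential.map_D, one_smul, hX]

/-- A finitely generated extension of a perfect field has `trdeg`-dimensional differentials. -/
theorem rank_kaehler_eq [PerfectField k] [Algebra.EssFiniteType k F] {ι : Type w} {x : ι → F}
    (hx : IsTranscendenceBasis k x) :
    Cardinal.lift.{w} (Module.rank F (Ω[F⁄k])) = Cardinal.lift.{v} (Cardinal.mk ι) := by
  obtain ⟨s, hs, hsep⟩ :=
    exists_isTranscendenceBasis_and_isSeparable_of_perfectField k F
  have hsep' : Algebra.IsSeparable ↥(IntermediateField.adjoin k (Set.range ((↑) : s → F))) F := by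
    rw [Subtype.range_coe_subtype]; exact hsep
  obtain ⟨b, -⟩ := exists_basis_of_separable hs hsep'
  rw [← b.mk_eq_rank'']
  exact (hs.lift_cardinalMk_eq hx)

/-- `F` is separable over `k(x)` once the `d xᵢ` span `Ω[F⁄k]`. -/
theorem isSeparable_of_span_eq_top [Algebra.EssFiniteType k F] {ι : Type w} {x : ι → F}
    (hx : IsTranscendenceBasis k x)
    (h : Submodule.span F (Set.range fun i : ι => KaehlerDifferential.D k F (x i)) = ⊤) :
    Algebra.IsSeparable ↥(IntermediateField.adjoin k (Set.range x)) F := by
  set E := IntermediateField.adjoin k (Set.range x)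
  haveI : Algebra.EssFiniteType E F := Algebra.EssFiniteType.of_comp k E F
  haveI : Subsingleton (Ω[F⁄E]) := by
    have hsurj : Function.Surjective (KaehlerDifferential.map k E F F) :=
      KaehlerDifferential.map_surjective k E F
    have h0 : LinearMap.range (KaehlerDifferential.map k E F F) ≤ ⊥ := by
      rw [LinearMap.range_eq_map, ← h, Submodule.map_span, Submodule.span_le]
      rintro _ ⟨_, ⟨i, rfl⟩, rfl⟩
      simp only [KaehlerDifferential.map_D, Algebra.algebraMap_self, RingHom.id_apply, SetLike.mem_coe,
        Submodule.mem_bot]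
      exact Derivation.map_algebraMap (KaehlerDifferential.D E F)
        (⟨x i, IntermediateField.subset_adjoin _ _ ⟨i, rfl⟩⟩ : E)
    refine subsingleton_of_forall_eq 0 fun y => ?_
    obtain ⟨z, rfl⟩ := hsurj y
    exact (Submodule.mem_bot F).1 (h0 ⟨z, rfl⟩)
  haveI : Algebra.FormallyUnramified E F := ⟨inferInstance⟩
  exact Algebra.FormallyUnramified.isSeparable E F

end Groth.Agent.CAlgSep
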